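import Groth.Agent.Lib.PicAff28.Main
import Groth.Agent.Lib.LocProj.Scheme
import Groth.Agent.Lib.Cube.Pic
import Groth.Agent.S12080
import Groth.Agent.S15751

/-!
# Invertible modules on the affine line over a seminormal scheme
-/

set_option autoImplicit false
set_option linter.all false
set_option backward.isDefEq.respectTransparency false
set_option maxHeartbeats 1000000
set_option synthInstance.maxHeartbeats 200000

universe u

open CategoryTheory CategoryTheory.Limits AlgebraicGeometry Opposite TopologicalSpace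
open GrothLib.InvExt (mres IsGen)
open GrothLib.BCCoh (pullRes)
open scoped TensorProduct

noncomputable section

namespace GrothLib.PicLine26

/-- Seminormality passes to localisations. -/
theorem isSeminormalRing_localization {A B : Type u} [CommRing A] [CommRing B] [Algebra A B] (S : Submonoid A)
    [IsLocalization S B] (hA : HTop.IsSeminormalRing A) : HTop.IsSeminormalRing B := by
  haveI := SwanPic1.isReduced_of_seminormal hA
  haveI : _root_.IsReduced B := isReduced_localizationPreserves S B ‹_›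
  intro x y h
  obtain ⟨⟨a, s⟩, hx⟩ := IsLocalization.surj S x
  obtain ⟨⟨b, t⟩, hy⟩ := IsLocalization.surj S y
  let d : A := (s : A) * (t : A)
  let X' : A := a * d * (t : A)
  let Y' : A := b * d ^ 2 * (s : A)
  have hX' : algebraMap A B X' = x * algebraMap A B d ^ 2 := by
    simp only [X', d, map_mul, ← hx]; ring
  have hY' : algebraMap A B Y' = y * algebraMap A B d ^ 3 := by
    simp only [Y', d, map_mul, map_pow, ← hy]; ring
  have e : algebraMap A B (X' ^ 3) = algebraMap A B (Y' ^ 2) := by
    rw [map_pow, map_pow, hX', hY', mul_pow, mul_pow, h]; ring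
  obtain ⟨c, hc⟩ := IsLocalization.exists_of_eq (M := S) e
  obtain ⟨z, ⟨hz2, hz3⟩, -⟩ := hA (X' * (c : A) ^ 2) (Y' * (c : A) ^ 3) (by linear_combination ((c : A) ^ 5) * hc)
  have hu : IsUnit (algebraMap A B ((c : A) * d)) :=
    IsLocalization.map_units B (c * (s * t) : S)
  obtain ⟨v, hv⟩ := hu.exists_right_inv
  have h2 : x = (algebraMap A B z * v) ^ 2 := by
    have h' := congrArg (algebraMap A B) hz2
    rw [map_mul, map_pow, map_pow, hX'] at h'
    rw [map_mul] at hv
    linear_combination v ^ 2 * h' - (x * (algebraMap A B c * algebraMap A B d * v + 1)) * hv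
  have h3 : y = (algebraMap A B z * v) ^ 3 := by
    have h' := congrArg (algebraMap A B) hz3
    rw [map_mul, map_pow, map_pow, hY'] at h'
    rw [map_mul] at hv
    linear_combination v ^ 3 * h' -
      (y * ((algebraMap A B c * algebraMap A B d * v) ^ 2 + algebraMap A B c * algebraMap A B d * v + 1)) * hv
  exact ⟨_, ⟨h2, h3⟩, fun w hw => SwanPic1.eq_of_sq_eq_of_cube_eq (hw.1.symm.trans h2) (hw.2.symm.trans h3)⟩

theorem isSeminormalRing_stalk {X : Scheme.{u}} (hX : HTop.IsSeminormal X) (x : X) :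
    HTop.IsSeminormalRing (X.presheaf.stalk x) := by
  obtain ⟨U, hxU, hU⟩ := hX x
  letI := X.presheaf.algebra_section_stalk ⟨x, hxU⟩
  haveI := FlatFP.isLocalization_stalk_primeAt U.2 hxU
  exact isSeminormalRing_localization (WeakAss.primeAt x hxU).primeCompl hU

/-- Transfer of freeness of invertible modules along a ring isomorphism. -/
theorem free_transfer {A B : Type u} [CommRing A] [CommRing B] (e : A ≃+* B)
    (h : ∀ (N : Type u) [AddCommGroup N] [Module B N] [Module.Invertible B N], Module.Free B N)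
    (M : Type u) [AddCommGroup M] [Module A M] [Module.Invertible A M] : Nonempty (M ≃ₗ[A] A) := by
  letI : Algebra A B := e.toRingHom.toAlgebra
  haveI := h (B ⊗[A] M)
  obtain ⟨φ⟩ := Module.Invertible.free_iff_linearEquiv.1 (inferInstance : Module.Free B (B ⊗[A] M))
  let eA : A ≃ₗ[A] B := { e with map_smul' := fun r a => e.map_mul r a }
  exact ⟨(TensorProduct.lid A M).symm ≪≫ₗ TensorProduct.congr eA (LinearEquiv.refl A M) ≪≫ₗ
    (φ.restrictScalars A) ≪≫ₗ eA.symm⟩

variable {X : Scheme.{u}}

/-- An invertible module on an affine scheme all whose invertible modules of sections are free is trivial. -/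
theorem nonempty_iso_of_free [IsAffine X]
    (h : ∀ (M : Type u) [AddCommGroup M] [Module Γ(X, ⊤) M] [Module.Invertible Γ(X, ⊤) M],
      Nonempty (M ≃ₗ[Γ(X, ⊤)] Γ(X, ⊤)))
    {L : X.Modules} (hL : PicF.IsInvertible L) : Nonempty (L ≅ Coh.structureModule X) := by
  haveI : L.IsQuasicoherent := InvExt.isQuasicoherent_of_isInvertible hL
  let A := Γ(X, ⊤)
  let s : Set A := {f | ∃ g : Γ(L, X.basicOpen f), IsGen L (X.basicOpen f) g}
  have hcov : ∀ x : X, ∃ f ∈ s, x ∈ X.basicOpen f := fun x => by
    obtain ⟨U, e, hx, he⟩ := InvExt.exists_gen_nhd hL x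
    obtain ⟨f, hf, hxf⟩ := (isAffineOpen_top X).exists_basicOpen_le (V := U) ⟨x, hx⟩ trivial
    exact ⟨f, ⟨_, he.restrict hf⟩, hxf⟩
  have hcov' : (⊤ : X.Opens) ≤ ⨆ f : s, X.basicOpen f.1 := fun x _ => by
    obtain ⟨f, hf, hxf⟩ := hcov x
    exact Opens.mem_iSup.2 ⟨⟨f, hf⟩, hxf⟩
  haveI : Module.Invertible A Γ(L, ⊤) := by
    refine Groth.Agent.S12080.result A Γ(L, ⊤) s ((isAffineOpen_top X).self_le_iSup_basicOpen_iff.1 hcov') fun f hf => ?_
    obtain ⟨g, hg⟩ := hf
    haveI := (isAffineOpen_top X).isLocalization_basicOpen f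
    letI : Module A Γ(L, X.basicOpen f) := Module.compHom _ (algebraMap A Γ(X, X.basicOpen f))
    haveI : IsScalarTower A Γ(X, X.basicOpen f) Γ(L, X.basicOpen f) :=
      IsScalarTower.of_algebraMap_smul fun _ _ => rfl
    haveI : IsLocalizedModule (Submonoid.powers f) (LocProj.resBasic L f) :=
      LocProj.isLocalizedModule_resBasic L f (isAffineOpen_top X)
    let φ : Γ(X, X.basicOpen f) ≃ₗ[Γ(X, X.basicOpen f)] Γ(L, X.basicOpen f) :=
      LinearEquiv.ofBijective (LinearMap.toSpanSingleton _ _ g) (by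
        have := hg (X.basicOpen f) le_rfl
        rw [InvExt.mres_self] at this
        exact this)
    let e1 : LocalizedModule.Away f Γ(L, ⊤) ≃ₗ[A] Γ(X, X.basicOpen f) :=
      (IsLocalizedModule.iso (Submonoid.powers f) (LocProj.resBasic L f)) ≪≫ₗ (φ.restrictScalars A).symm
    let e2 : Γ(X, X.basicOpen f) ≃ₗ[A] Localization.Away f :=
      (IsLocalization.algEquiv (Submonoid.powers f) Γ(X, X.basicOpen f) (Localization.Away f)).toLinearEquiv
    exact ⟨(e1 ≪≫ₗ e2).extendScalarsOfIsLocalization (Submonoid.powers f) (Localization.Away f)⟩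
  obtain ⟨φ⟩ := h Γ(L, ⊤)
  let e₀ : Γ(L, ⊤) := φ.symm 1
  have he₀ : IsGen L ⊤ e₀ := by
    refine InvExt.isGen_of_cover (fun f : s => X.basicOpen f.1) (fun _ => le_top) hcov' fun f => ?_
    obtain ⟨g, hg⟩ := f.2
    obtain ⟨u, hu⟩ := hg.exists_smul_eq le_rfl (mres L (le_top : X.basicOpen f.1 ≤ ⊤) e₀)
    rw [InvExt.mres_self] at hu
    rw [hu]
    refine hg.smul_unit ?_
    haveI := (isAffineOpen_top X).isLocalization_basicOpen f.1
    letI : Module A Γ(L, X.basicOpen f.1) := Module.compHom _ (algebraMap A Γ(X, X.basicOpen f.1))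
    haveI : IsScalarTower A Γ(X, X.basicOpen f.1) Γ(L, X.basicOpen f.1) :=
      IsScalarTower.of_algebraMap_smul fun _ _ => rfl
    haveI : IsLocalizedModule (Submonoid.powers f.1) (LocProj.resBasic L f.1) :=
      LocProj.isLocalizedModule_resBasic L f.1 (isAffineOpen_top X)
    obtain ⟨⟨m, ⟨_, n, rfl⟩⟩, hm⟩ := IsLocalizedModule.surj (Submonoid.powers f.1) (LocProj.resBasic L f.1) g
    have hm0 : m = φ m • e₀ := by
      rw [← map_smul φ.symm, smul_eq_mul, mul_one, φ.symm_apply_apply]
    have h1 : algebraMap A Γ(X, X.basicOpen f.1) (f.1 ^ n) • g =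
        (algebraMap A Γ(X, X.basicOpen f.1) (φ m) * u) • g := by
      refine Eq.trans (hm : _) ?_
      conv_lhs => rw [hm0]
      rw [map_smul, mul_smul, ← hu]
      rfl
    have h2 : algebraMap A Γ(X, X.basicOpen f.1) (f.1 ^ n) = algebraMap A Γ(X, X.basicOpen f.1) (φ m) * u :=
      hg.smul_left_injective le_rfl (by rw [InvExt.mres_self]; exact h1)
    have h3 : IsUnit (algebraMap A Γ(X, X.basicOpen f.1) (f.1 ^ n)) :=
      IsLocalization.map_units _ (⟨f.1 ^ n, n, rfl⟩ : Submonoid.powers f.1)
    rw [h2] at h3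
    exact isUnit_of_mul_isUnit_right h3
  let θ := FinCov.homOfSection (X := X) e₀
  haveI : IsIso θ := PicAff28.isIso_of_app_bijective θ fun T => by
    have h : ⇑(θ.app T) = fun c : Γ(X, T) => c • mres L (le_top : T ≤ ⊤) e₀ :=
      funext fun (c : Γ(X, T)) => by
      refine (PicAff28.smul_one_app θ T c).trans (congrArg (fun w => c • mres L le_top w) ?_)
      refine (FinCov.homOfSection_one e₀ ⊤).trans ?_
      exact InvExt.mres_self L e₀
    rw [h]
    exact he₀ T le_top
  exact ⟨(asIso θ).symm⟩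

/-- Traverso--Swan for the affine line over a seminormal local ring. -/
theorem nonempty_iso_affineLine_local {R : CommRingCat.{u}} [IsLocalRing R] (hR : HTop.IsSeminormalRing R)
    {L : (AffineSpace PUnit.{u + 1} (Spec R)).Modules} (hL : PicF.IsInvertible L) :
    Nonempty (L ≅ Coh.structureModule _) := by
  let A := Γ(AffineSpace PUnit.{u + 1} (Spec R), ⊤)
  let e : A ≃+* Polynomial R :=
    ((asIso (AffineSpace.SpecIso PUnit.{u + 1} R).inv.appTop).commRingCatIsoToRingEquiv.trans
      (Scheme.ΓSpecIso _).commRingCatIsoToRingEquiv).trans (MvPolynomial.uniqueAlgEquiv R PUnit.{u + 1}).toRingEquiv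
  exact nonempty_iso_of_free (fun M _ _ _ => free_transfer e
    (fun N _ _ _ => Groth.Agent.S15751.free_of_invertible_polynomial hR N) M) hL

variable {N : Type u}

/-- The gluing statement of `PicAff28`, with triviality along the zero section as hypothesis. -/
theorem nonempty_iso_of_zsec [AlgebraicGeometry.IsReduced X]
    (hloc : ∀ x : X, ∀ L : (AffineSpace N (Spec (X.presheaf.stalk x))).Modules, PicF.IsInvertible L →
      Nonempty (L ≅ Coh.structureModule _))
    (L : (AffineSpace N X).Modules) (hL : PicF.IsInvertible L)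
    (hX : Nonempty ((Scheme.Modules.pullback (PicAff28.zsec N X)).obj L ≅ Coh.structureModule X)) :
    Nonempty (L ≅ Coh.structureModule (AffineSpace N X)) := by
  let π := AffineSpace N X ↘ X
  let z := PicAff28.zsec N X
  let M := (Scheme.Modules.pullback z).obj L
  obtain ⟨φ⟩ := hX
  let σ : Γ(M, ⊤) := φ.inv.app ⊤ (1 : Γ(X, ⊤))
  have hσ : IsGen M ⊤ σ := InvExt.IsGen.map φ.inv (InvExt.isGen_one ⊤) fun W _ =>
    ConcreteCategory.bijective_of_isIso (φ.inv.app W)
  have hnorm : ∀ x : X, ∃ (V : X.Opens) (e : Γ(L, π ⁻¹ᵁ V)), x ∈ V ∧ IsGen L (π ⁻¹ᵁ V) e ∧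
      pullRes z L (π ⁻¹ᵁ V) V (PicAff28.zsec_preimage V) e = mres M le_top σ := fun x => by
    obtain ⟨V, e, hx, he⟩ := PicAff28.exists_gen_near hL (hloc x _ (Ample.isInvertible_pullback _ hL))
    have h1 := PicAff28.isGen_pullRes z hL he V (PicAff28.zsec_preimage V)
    obtain ⟨c, hc⟩ := h1.exists_smul_eq le_rfl (mres M (le_top : V ≤ ⊤) σ)
    rw [InvExt.mres_self] at hc
    have hu : IsUnit c := PicAff28.isUnit_of_isGen_smul h1 (hc ▸ hσ.restrict le_top)
    refine ⟨V, π.app V c • e, hx, he.smul_unit (hu.map (π.app V).hom), ?_⟩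
    rw [BCCoh.pullRes_smul, PicAff28.zsec_appLE_app]
    exact hc.symm
  choose V e hxV he hez using hnorm
  obtain ⟨s, hs⟩ := InvExt.exists_gen_of_glue (fun x => π ⁻¹ᵁ V x) e he (fun x y => by
      let W := V x ⊓ V y
      have ha := (he x).restrict (π.preimage_mono (inf_le_left : W ≤ V x))
      have hb := (he y).restrict (π.preimage_mono (inf_le_right : W ≤ V y))
      obtain ⟨a, hae⟩ := ha.exists_smul_eq le_rfl (mres L (π.preimage_mono (inf_le_right : W ≤ V y)) (e y))
      rw [InvExt.mres_self] at hae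
      have hz : ∀ (v : X) (hWv : W ≤ V v), pullRes z L (π ⁻¹ᵁ W) W (PicAff28.zsec_preimage W)
          (mres L (π.preimage_mono hWv) (e v)) = mres M le_top σ := fun v hWv => by
        refine ((BCCoh.pullRes_res z L (π.preimage_mono hWv) (PicAff28.zsec_preimage (V v))
          (PicAff28.zsec_preimage W) hWv (e v)).symm).trans ?_
        rw [hez v]
        exact InvExt.mres_mres M _ _ σ
      have h1 := congrArg (pullRes z L (π ⁻¹ᵁ W) W (PicAff28.zsec_preimage W)) hae
      rw [BCCoh.pullRes_smul, hz x inf_le_left, hz y inf_le_right] at h1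
      have ha1 : z.appLE (π ⁻¹ᵁ W) W (PicAff28.zsec_preimage W) a = 1 := by
        refine ((hσ.restrict (le_top : W ≤ ⊤)).smul_left_injective le_rfl ?_)
        rw [InvExt.mres_self, one_smul]
        exact h1.symm
      have hua : IsUnit a := PicAff28.isUnit_of_isGen_smul ha (hae ▸ hb)
      rw [PicAff28.eq_one_of_zsec hua ha1, one_smul] at hae
      exact hae.symm)
    ⊤ (fun _ => le_top) (fun q _ => Opens.mem_iSup.2 ⟨π q, hxV _⟩)
  let θ := FinCov.homOfSection (X := AffineSpace N X) s
  haveI : IsIso θ := PicAff28.isIso_of_app_bijective θ fun T => by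
    have h : ⇑(θ.app T) = fun c : Γ(AffineSpace N X, T) => c • mres L (le_top : T ≤ ⊤) s :=
      funext fun (c : Γ(AffineSpace N X, T)) => by
      refine (PicAff28.smul_one_app θ T c).trans (congrArg (fun w => c • mres L le_top w) ?_)
      refine (FinCov.homOfSection_one s ⊤).trans ?_
      exact InvExt.mres_self L s
    rw [h]
    exact hs T le_top
  exact ⟨(asIso θ).symm⟩

open GrothLib.Cube in
/-- The Picard group of the affine line over a reduced seminormal scheme. -/
theorem bijective_pull [AlgebraicGeometry.IsReduced X] (hX : HTop.IsSeminormal X) :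
    Function.Bijective (pull (AffineSpace PUnit.{u + 1} X ↘ X)) := by
  let π := AffineSpace PUnit.{u + 1} X ↘ X
  let z := PicAff28.zsec PUnit.{u + 1} X
  have hzπ : ∀ y : Pic X, pull z (pull π y) = y := fun y => by
    rw [pull_comp, PicAff28.zsec_over, pull_id]
  refine ⟨fun a b h => by rw [← hzπ a, ← hzπ b]; exact congrArg (pull z) h, fun x => ⟨pull z x, ?_⟩⟩
  obtain ⟨c, hc⟩ : ∃ c, cls c = x * (pull π (pull z x))⁻¹ := Quotient.exists_rep _
  have h1 : pull z (cls c) = 1 := by rw [hc, map_mul, map_inv, hzπ, mul_inv_cancel]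
  have hinv := c.isInvertible_twist 1
  have h2 : cls c = 1 := by
    rw [← clsMod_eq hinv (Iso.refl _), clsMod_eq_one_iff]
    refine nonempty_iso_of_zsec (fun x L hL => nonempty_iso_affineLine_local (isSeminormalRing_stalk hX x) hL) _ hinv ?_
    rw [← clsMod_eq_one_iff (Ample.isInvertible_pullback _ hinv)]
    exact (clsMod_pullback _ hinv).trans (by rw [clsMod_eq hinv (Iso.refl _)]; exact h1)
  rw [h2] at hc
  exact (mul_inv_eq_one.1 hc.symm).symm

end GrothLib.PicLine26
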